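import Mathlib
import Groth.Prelude.Def_TwC
import Groth.Agent.Lib.Helper3.TwConstFin2
import Groth.Agent.Lib.Lead.FpqcProp1

/-!
# Quasi-isotrivial twisted constant schemes are separated, etale and satisfy the valuative
criterion (helper6)
-/

set_option autoImplicit false
set_option linter.style.haveILetI false
set_option linter.unusedSectionVars false
set_option linter.unusedVariables false
set_option maxHeartbeats 800000
set_option synthInstance.maxHeartbeats 400000
universe u

namespace Groth.Agent.Helper6.TwCEt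
open CategoryTheory CategoryTheory.Limits AlgebraicGeometry

section Const
variable (T : Scheme.{u}) (I : Type u)

/-- the structure map of the constant scheme -/
noncomputable abbrev dd : (∐ fun _ : I => T) ⟶ T := Sigma.desc (fun _ : I => 𝟙 T)

/-- the inclusions of the constant scheme -/
noncomputable abbrev ii (i : I) : T ⟶ (∐ fun _ : I => T) := Sigma.ι (fun _ : I => T) i

lemma ii_dd (i : I) : ii T I i ≫ dd T I = 𝟙 T := Sigma.ι_desc _ _

lemma dd_ii_apply (i : I) (a : T) : (dd T I) ((ii T I i) a) = a := by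
  rw [← Scheme.Hom.comp_apply, ii_dd]; rfl

lemma exists_ii_eq (w : ↥(∐ fun _ : I => T)) : ∃ (i : I) (a : T), (ii T I i) a = w := by
  obtain ⟨⟨i, a⟩, h⟩ := (sigmaMk (fun _ : I => T)).surjective w
  exact ⟨i, a, by rw [← h, sigmaMk_mk]⟩

instance etale_dd : Etale (dd T I) :=
  IsZariskiLocalAtSource.sigmaDesc (P := @Etale) (fun _ => inferInstance)

theorem isClosed_range_diagonal_dd : IsClosed (Set.range (pullback.diagonal (dd T I))) := by
  rw [← isOpen_compl_iff, isOpen_iff_forall_mem_open]
  intro w hw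
  obtain ⟨i, a, ha⟩ := exists_ii_eq T I ((pullback.fst (dd T I) (dd T I)) w)
  obtain ⟨j, b, hb⟩ := exists_ii_eq T I ((pullback.snd (dd T I) (dd T I)) w)
  by_cases hij : i = j
  · exfalso
    rw [← hij] at hb
    refine hw ?_
    haveI hmono : Mono (ii T I i ≫ dd T I) := by
      rw [ii_dd]; infer_instance
    have e₁ : (ii T I i ≫ dd T I) ≫ 𝟙 T = ii T I i ≫ dd T I := Category.comp_id _
    have hr := Scheme.Pullback.range_map (ii T I i ≫ dd T I) (ii T I i ≫ dd T I) (dd T I) (dd T I)
      (ii T I i) (ii T I i) (𝟙 T) e₁ e₁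
    have hwr : w ∈ Set.range (pullback.map (ii T I i ≫ dd T I) (ii T I i ≫ dd T I)
        (dd T I) (dd T I) (ii T I i) (ii T I i) (𝟙 T) e₁ e₁) := by
      rw [hr]
      exact ⟨⟨a, ha⟩, ⟨b, hb⟩⟩
    obtain ⟨w₀, hw₀⟩ := hwr
    have hnat : pullback.diagonal (ii T I i ≫ dd T I) ≫
        pullback.map (ii T I i ≫ dd T I) (ii T I i ≫ dd T I) (dd T I) (dd T I)
          (ii T I i) (ii T I i) (𝟙 T) e₁ e₁ =
        ii T I i ≫ pullback.diagonal (dd T I) := by
      have hm1 : pullback.map (ii T I i ≫ dd T I) (ii T I i ≫ dd T I) (dd T I) (dd T I)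
          (ii T I i) (ii T I i) (𝟙 T) e₁ e₁ ≫ pullback.fst (dd T I) (dd T I) =
          pullback.fst (ii T I i ≫ dd T I) (ii T I i ≫ dd T I) ≫ ii T I i :=
        pullback.lift_fst _ _ _
      have hm2 : pullback.map (ii T I i ≫ dd T I) (ii T I i ≫ dd T I) (dd T I) (dd T I)
          (ii T I i) (ii T I i) (𝟙 T) e₁ e₁ ≫ pullback.snd (dd T I) (dd T I) =
          pullback.snd (ii T I i ≫ dd T I) (ii T I i ≫ dd T I) ≫ ii T I i :=
        pullback.lift_snd _ _ _
      apply pullback.hom_ext
      · simp only [Category.assoc, hm1, pullback.diagonal_fst_assoc, pullback.diagonal_fst,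
          Category.comp_id]
      · simp only [Category.assoc, hm2, pullback.diagonal_snd_assoc, pullback.diagonal_snd,
          Category.comp_id]
    have hw₁ : (pullback.diagonal (ii T I i ≫ dd T I))
        ((inv (pullback.diagonal (ii T I i ≫ dd T I))) w₀) = w₀ := by
      rw [← Scheme.Hom.comp_apply, IsIso.inv_hom_id]; rfl
    refine ⟨(ii T I i) ((inv (pullback.diagonal (ii T I i ≫ dd T I))) w₀), ?_⟩
    calc (pullback.diagonal (dd T I))
          ((ii T I i) ((inv (pullback.diagonal (ii T I i ≫ dd T I))) w₀))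
        = (ii T I i ≫ pullback.diagonal (dd T I))
          ((inv (pullback.diagonal (ii T I i ≫ dd T I))) w₀) :=
          (Scheme.Hom.comp_apply _ _ _).symm
      _ = (pullback.diagonal (ii T I i ≫ dd T I) ≫
            pullback.map (ii T I i ≫ dd T I) (ii T I i ≫ dd T I) (dd T I) (dd T I)
            (ii T I i) (ii T I i) (𝟙 T) e₁ e₁)
          ((inv (pullback.diagonal (ii T I i ≫ dd T I))) w₀) := by rw [hnat]
      _ = (pullback.map (ii T I i ≫ dd T I) (ii T I i ≫ dd T I) (dd T I) (dd T I)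
            (ii T I i) (ii T I i) (𝟙 T) e₁ e₁)
          ((pullback.diagonal (ii T I i ≫ dd T I))
            ((inv (pullback.diagonal (ii T I i ≫ dd T I))) w₀)) :=
          Scheme.Hom.comp_apply _ _ _
      _ = w := by rw [hw₁, hw₀]
  · refine ⟨(pullback.fst (dd T I) (dd T I)) ⁻¹' Set.range (ii T I i) ∩
      (pullback.snd (dd T I) (dd T I)) ⁻¹' Set.range (ii T I j), ?_, ?_, ?_⟩
    · rintro z ⟨⟨a', ha'⟩, ⟨b', hb'⟩⟩ ⟨c, rfl⟩
      have h1 : (pullback.fst (dd T I) (dd T I)) ((pullback.diagonal (dd T I)) c) = c := by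
        rw [← Scheme.Hom.comp_apply, pullback.diagonal_fst]; rfl
      have h2 : (pullback.snd (dd T I) (dd T I)) ((pullback.diagonal (dd T I)) c) = c := by
        rw [← Scheme.Hom.comp_apply, pullback.diagonal_snd]; rfl
      rw [h1] at ha'
      rw [h2] at hb'
      have h3 := (sigmaι_eq_iff (fun _ : I => T) i j a' b').mp (ha'.trans hb'.symm)
      exact hij (congrArg Sigma.fst h3)
    · exact ((ii T I i).isOpenEmbedding.isOpen_range.preimage
        (pullback.fst (dd T I) (dd T I)).continuous).inter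
        ((ii T I j).isOpenEmbedding.isOpen_range.preimage
        (pullback.snd (dd T I) (dd T I)).continuous)
    · exact ⟨⟨a, ha⟩, ⟨b, hb⟩⟩

instance isSeparated_dd : IsSeparated (dd T I) :=
  ⟨IsClosedImmersion.of_isPreimmersion _ (isClosed_range_diagonal_dd T I)⟩

/-- A scheme over `T` that is isomorphic to a constant scheme is specializing over `T`. -/
lemma specializing_of_iso_const {W : Scheme.{u}} (q : W ⟶ T)
    (E : W ≅ ∐ fun _ : I => T) (hE : E.hom ≫ dd T I = q) : SpecializingMap q := by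
  subst hE
  intro z t hzt
  have hzt' : (E.hom ≫ dd T I) z ⤳ t := hzt
  obtain ⟨i, a, ha⟩ := exists_ii_eq T I (E.hom z)
  have hqa : (E.hom ≫ dd T I) z = a := by
    rw [Scheme.Hom.comp_apply, ← ha, dd_ii_apply]
  rw [hqa] at hzt'
  have hz : E.inv ((ii T I i) a) = z := by
    rw [ha, ← Scheme.Hom.comp_apply, E.hom_inv_id]; rfl
  have h2 : (ii T I i) a ⤳ (ii T I i) t := hzt'.map (ii T I i).continuous
  have h3 : E.inv ((ii T I i) a) ⤳ E.inv ((ii T I i) t) := h2.map E.inv.continuous
  rw [hz] at h3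
  have h4 : E.hom (E.inv ((ii T I i) t)) = (ii T I i) t := by
    rw [← Scheme.Hom.comp_apply, E.inv_hom_id]; rfl
  refine ⟨E.inv ((ii T I i) t), h3, ?_⟩
  rw [Scheme.Hom.comp_apply, h4, dd_ii_apply]

end Const

section Main
variable {S : Scheme.{u}} (X : Over S)

theorem prop_of_twConst (P' : MorphismProperty Scheme.{u}) [P'.RespectsIso]
    [IsZariskiLocalAtTarget P'] [P'.IsStableUnderBaseChange]
    [P'.DescendsAlong (@Surjective ⊓ @Flat ⊓ @LocallyOfFinitePresentation :
      MorphismProperty Scheme.{u})]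
    (hconst : ∀ (T : Scheme.{u}) (I : Type u), P' (dd T I))
    (hX : TwC.IsTwConst TwC.Topology.etale X) : P' X.hom := by
  have hX' : ∀ s : S, ∃ (S' : Scheme.{u}) (f : S' ⟶ S), Etale f ∧ s ∈ Set.range f ∧
      ∃ I : Type u, Nonempty (Red.bc f X ≅ TwC.const S' I) := hX
  refine Groth.Agent.Helper3.TwConstFin2.prop_of_fppf_local P' X.hom ?_
  intro s
  obtain ⟨S', f, hf, hs, I, ⟨e⟩⟩ := hX' s
  haveI := hf
  refine ⟨S', f, inferInstance, inferInstance, hs, ?_⟩
  have hw : e.hom.left ≫ dd S' I = pullback.snd X.hom f := Over.w e.hom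
  haveI : IsIso e.hom.left := (Over.forget S').map_isIso e.hom
  rw [← hw]
  exact (P'.cancel_left_of_respectsIso _ _).mpr (hconst S' I)

theorem existence_of_twConst (hX : TwC.IsTwConst TwC.Topology.etale X) :
    ValuativeCriterion.Existence X.hom := by
  have hX' : ∀ s : S, ∃ (S' : Scheme.{u}) (f : S' ⟶ S), Etale f ∧ s ∈ Set.range f ∧
      ∃ I : Type u, Nonempty (Red.bc f X ≅ TwC.const S' I) := hX
  rw [ValuativeCriterion.Existence.eq]
  intro X' T i₁ g f' hpb x t' hxt
  have hxt' : f' x ⤳ t' := hxt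
  obtain ⟨S', φ, hφ, ⟨s', hs'⟩, I, ⟨e⟩⟩ := hX' (g t')
  haveI := hφ
  obtain ⟨t'', ht1, ht2⟩ := Scheme.Pullback.exists_preimage_pullback (f := g) (g := φ) t' s'
    hs'.symm
  have hgen := Flat.generalizingMap (pullback.fst g φ)
  obtain ⟨u'', hu1, hu2⟩ := hgen
    (show f' x ⤳ (pullback.fst g φ) t'' by rw [ht1]; exact hxt')
  obtain ⟨z, hz1, hz2⟩ := Scheme.Pullback.exists_preimage_pullback (f := f')
    (g := pullback.fst g φ) x u'' hu2.symm
  have hpaste := (IsPullback.of_hasPullback f' (pullback.fst g φ)).flip.paste_vert hpb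
  have hcond : pullback.fst g φ ≫ g = pullback.snd g φ ≫ φ := pullback.condition
  rw [hcond] at hpaste
  obtain ⟨e''⟩ := Groth.Agent.Helper3.TwConstFin2.const_bc' X φ (pullback.snd g φ) I e
  have hw : e''.hom.left ≫ dd (pullback g φ) I =
      pullback.snd X.hom (pullback.snd g φ ≫ φ) := Over.w e''.hom
  have hψ := hpaste.flip.isoPullback_hom_snd
  have hE : (hpaste.flip.isoPullback ≪≫ (Over.forget (pullback g φ)).mapIso e'').hom ≫
      dd (pullback g φ) I = pullback.snd f' (pullback.fst g φ) := by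
    rw [Iso.trans_hom, Category.assoc]
    exact ((congrArg (fun m => hpaste.flip.isoPullback.hom ≫ m) hw).trans hψ)
  have hspec := specializing_of_iso_const (pullback g φ) I
    (pullback.snd f' (pullback.fst g φ)) _ hE
  obtain ⟨z', hz'1, hz'2⟩ := hspec
    (show (pullback.snd f' (pullback.fst g φ)) z ⤳ t'' by rw [hz2]; exact hu1)
  have hz'1' : z ⤳ z' := hz'1
  refine ⟨(pullback.fst f' (pullback.fst g φ)) z', ?_, ?_⟩
  · show x ⤳ _
    have h5 := hz'1'.map (pullback.fst f' (pullback.fst g φ)).continuous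
    rwa [hz1] at h5
  · have hc : pullback.fst f' (pullback.fst g φ) ≫ f' =
        pullback.snd f' (pullback.fst g φ) ≫ pullback.fst g φ := pullback.condition
    calc f' ((pullback.fst f' (pullback.fst g φ)) z')
        = (pullback.fst f' (pullback.fst g φ) ≫ f') z' := (Scheme.Hom.comp_apply _ _ _).symm
      _ = (pullback.snd f' (pullback.fst g φ) ≫ pullback.fst g φ) z' := by rw [hc]
      _ = (pullback.fst g φ) ((pullback.snd f' (pullback.fst g φ)) z') :=
          Scheme.Hom.comp_apply _ _ _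
      _ = t' := by rw [hz'2, ht1]

theorem main (hX : TwC.IsTwConst TwC.Topology.etale X) :
    IsSeparated X.hom ∧ Etale X.hom ∧ ValuativeCriterion X.hom := by
  have hsep : IsSeparated X.hom :=
    prop_of_twConst X @IsSeparated (fun T I => isSeparated_dd T I) hX
  have het : Etale X.hom :=
    prop_of_twConst X @Etale (fun T I => etale_dd T I) hX
  haveI := hsep
  exact ⟨hsep, het, ValuativeCriterion.iff.mpr
    ⟨existence_of_twConst X hX, IsSeparated.valuativeCriterion X.hom⟩⟩

end Main

end Groth.Agent.Helper6.TwCEt
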