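import Mathlib
import Groth.Prelude.Def_TwC
import Groth.Agent.Lib.Helper6.TwCEt.TE1
import Groth.Agent.Lib.Helper4.EqOpen
import Groth.Agent.Lib.Helper7.SmoothSection
import Groth.Agent.Lib.Helper7.QFSplit.Local

/-!
# Quasi-isotrivial twisted constant schemes over a henselian local base (helper6)
-/

set_option autoImplicit false
set_option linter.style.haveILetI false
set_option linter.unusedSectionVars false
set_option linter.unusedVariables false
set_option maxHeartbeats 800000
set_option synthInstance.maxHeartbeats 400000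
universe u

namespace Groth.Agent.Helper6.TwCEt
open CategoryTheory CategoryTheory.Limits AlgebraicGeometry
open Groth.Agent.Lib.Helper4.EqOpen

set_option backward.isDefEq.respectTransparency.types false in
/-- étale morphisms are locally quasi-finite -/
theorem lqf_of_etale {X Y : Scheme.{u}} (f : X ⟶ Y) [Etale f] : LocallyQuasiFinite f := by
  rw [HasRingHomProperty.iff_appLE (P := @LocallyQuasiFinite)]
  intro U V e
  have h1 := (HasRingHomProperty.iff_appLE (P := @FormallyUnramified)).mp inferInstance U V e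
  have h2 := (HasRingHomProperty.iff_appLE (P := @LocallyOfFiniteType)).mp inferInstance U V e
  algebraize [(f.appLE U V e).hom]
  rw [← RingHom.algebraMap_toAlgebra (f.appLE U V e).hom, RingHom.quasiFinite_algebraMap]
  infer_instance

theorem specializing_of_twConst {S : Scheme.{u}} (X : Over S)
    (hX : TwC.IsTwConst TwC.Topology.etale X) : SpecializingMap X.hom := by
  have h := existence_of_twConst X hX
  rw [ValuativeCriterion.Existence.eq] at h
  exact MorphismProperty.universally_le _ _ h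

section Hens
variable (R : Type u) [CommRing R] [HenselianLocalRing R]
variable (X : Over (Spec (CommRingCat.of R))) (hX : TwC.IsTwConst TwC.Topology.etale X)

include hX in
theorem hens_part1 (x : X.left) (hx : X.hom.base x = IsLocalRing.closedPoint R) :
    IsOpenImmersion (X.left.fromSpecStalk x) ∧ IsClosedImmersion (X.left.fromSpecStalk x) ∧
      IsFinite (X.left.fromSpecStalk x ≫ X.hom) ∧ Etale (X.left.fromSpecStalk x ≫ X.hom) ∧
      Surjective (X.left.fromSpecStalk x ≫ X.hom) := by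
  obtain ⟨hsep, het, -⟩ := main X hX
  haveI := hsep
  haveI := het
  haveI : LocallyQuasiFinite X.hom := lqf_of_etale X.hom
  haveI : HenselianLocalRing Γ(Spec (CommRingCat.of R), ⊤) :=
    Groth.Agent.Helper7.QFSplit.henselianLocalRing_Γ_Spec R
  have hx' : X.hom x = IsLocalRing.closedPoint R := hx
  have hcl : IsClosed ({X.hom x} : Set (Spec (CommRingCat.of R))) := by
    rw [hx']; exact IsLocalRing.isClosed_singleton_closedPoint R
  obtain ⟨h1, h2, h3⟩ := Groth.Agent.Helper7.QFSplit.fromSpecStalk_clopen X.hom x hcl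
    (X.hom.quasiFiniteAt x)
  haveI := h1
  haveI hetc : Etale (X.left.fromSpecStalk x ≫ X.hom) := inferInstance
  refine ⟨h1, h2, h3, hetc, ⟨fun y => ?_⟩⟩
  have hgen := Flat.generalizingMap (X.left.fromSpecStalk x ≫ X.hom)
  have hy : y ⤳ (X.left.fromSpecStalk x ≫ X.hom)
      (IsLocalRing.closedPoint (X.left.presheaf.stalk x)) := by
    rw [Scheme.Hom.comp_apply, Scheme.fromSpecStalk_closedPoint, hx']
    exact IsLocalRing.specializes_closedPoint y
  obtain ⟨z, -, hz⟩ := hgen hy
  exact ⟨z, hz⟩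

include hX in
theorem hens_part2 (y : X.left) :
    ∃! x : X.left, X.hom.base x = IsLocalRing.closedPoint R ∧
      y ∈ Set.range (X.left.fromSpecStalk x).base := by
  have hspec := specializing_of_twConst X hX
  obtain ⟨x, hyx, hx⟩ := hspec (show X.hom y ⤳ IsLocalRing.closedPoint R from
    IsLocalRing.specializes_closedPoint _)
  have hyx' : y ⤳ x := hyx
  have hmem : ∀ x' : X.left, y ∈ Set.range (X.left.fromSpecStalk x') ↔ y ⤳ x' := by
    intro x'
    rw [Scheme.range_fromSpecStalk]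
    exact Iff.rfl
  refine ⟨x, ⟨hx, (hmem x).mpr hyx'⟩, ?_⟩
  rintro x' ⟨hx', hy'⟩
  have hy'' : y ⤳ x' := (hmem x').mp hy'
  obtain ⟨-, hc, -⟩ := hens_part1 R X hX x hx
  obtain ⟨-, hc', -⟩ := hens_part1 R X hX x' hx'
  have h1 : x' ∈ Set.range (X.left.fromSpecStalk x) :=
    hy''.mem_closed (X.left.fromSpecStalk x).isClosedEmbedding.isClosed_range
      ((hmem x).mpr hyx')
  have h2 : x ∈ Set.range (X.left.fromSpecStalk x') :=
    hyx'.mem_closed (X.left.fromSpecStalk x').isClosedEmbedding.isClosed_range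
      ((hmem x').mpr hy'')
  rw [Scheme.range_fromSpecStalk] at h1 h2
  exact (Specializes.antisymm h1 h2).eq

include hX in
theorem hens_part3 (σ₁ σ₂ : Spec (CommRingCat.of R) ⟶ X.left)
    (h1 : σ₁ ≫ X.hom = 𝟙 _) (h2 : σ₂ ≫ X.hom = 𝟙 _)
    (h : Spec.map (CommRingCat.ofHom (IsLocalRing.residue R)) ≫ σ₁ =
      Spec.map (CommRingCat.ofHom (IsLocalRing.residue R)) ≫ σ₂) : σ₁ = σ₂ := by
  obtain ⟨hsep, het, -⟩ := main X hX
  haveI := het
  haveI : IsOpenImmersion (pullback.diagonal X.hom) := inferInstance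
  have hfg : σ₁ ≫ X.hom = σ₂ ≫ X.hom := h1.trans h2.symm
  have hc : IsLocalRing.closedPoint R ∈ eqOpen X.hom σ₁ σ₂ hfg := by
    have h3 := mem_eqOpen_of_comp_eq X.hom σ₁ σ₂ hfg
      (Spec.map (CommRingCat.ofHom (IsLocalRing.residue R))) h
      (IsLocalRing.closedPoint (IsLocalRing.ResidueField R))
    have hpt : (Spec.map (CommRingCat.ofHom (IsLocalRing.residue R)))
        (IsLocalRing.closedPoint (IsLocalRing.ResidueField R)) = IsLocalRing.closedPoint R :=
      IsLocalRing.PrimeSpectrum.comap_residue R _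
    rwa [hpt] at h3
  have htop : eqOpen X.hom σ₁ σ₂ hfg = ⊤ := (IsLocalRing.closedPoint_mem_iff _).mp hc
  have h4 := le_eqOpen_ι X.hom σ₁ σ₂ hfg ⊤ (le_of_eq htop.symm)
  haveI : IsIso (⊤ : (Spec (CommRingCat.of R)).Opens).ι :=
    inferInstanceAs (IsIso (Spec (CommRingCat.of R)).topIso.hom)
  exact (cancel_epi _).mp h4

include hX in
theorem hens_part4 (τ : Spec (CommRingCat.of (IsLocalRing.ResidueField R)) ⟶ X.left)
    (hτ : τ ≫ X.hom = Spec.map (CommRingCat.ofHom (IsLocalRing.residue R))) :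
    ∃ σ : Spec (CommRingCat.of R) ⟶ X.left, σ ≫ X.hom = 𝟙 _ ∧
      Spec.map (CommRingCat.ofHom (IsLocalRing.residue R)) ≫ σ = τ := by
  obtain ⟨hsep, het, -⟩ := main X hX
  haveI := het
  exact Groth.Agent.Helper7.SmoothSection.S5038_main R X.hom τ hτ

include hX in
theorem hens_main :
    (∀ x : X.left, X.hom.base x = IsLocalRing.closedPoint R →
      IsOpenImmersion (X.left.fromSpecStalk x) ∧ IsClosedImmersion (X.left.fromSpecStalk x) ∧
        IsFinite (X.left.fromSpecStalk x ≫ X.hom) ∧ Etale (X.left.fromSpecStalk x ≫ X.hom) ∧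
        Surjective (X.left.fromSpecStalk x ≫ X.hom)) ∧
    (∀ y : X.left, ∃! x : X.left, X.hom.base x = IsLocalRing.closedPoint R ∧
      y ∈ Set.range (X.left.fromSpecStalk x).base) ∧
    (∀ σ₁ σ₂ : Spec (CommRingCat.of R) ⟶ X.left, σ₁ ≫ X.hom = 𝟙 _ → σ₂ ≫ X.hom = 𝟙 _ →
      Spec.map (CommRingCat.ofHom (IsLocalRing.residue R)) ≫ σ₁ =
        Spec.map (CommRingCat.ofHom (IsLocalRing.residue R)) ≫ σ₂ → σ₁ = σ₂) ∧
    (∀ τ : Spec (CommRingCat.of (IsLocalRing.ResidueField R)) ⟶ X.left,
      τ ≫ X.hom = Spec.map (CommRingCat.ofHom (IsLocalRing.residue R)) →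
      ∃ σ : Spec (CommRingCat.of R) ⟶ X.left, σ ≫ X.hom = 𝟙 _ ∧
        Spec.map (CommRingCat.ofHom (IsLocalRing.residue R)) ≫ σ = τ) :=
  ⟨fun x hx => hens_part1 R X hX x hx, fun y => hens_part2 R X hX y,
    fun σ₁ σ₂ h1 h2 h => hens_part3 R X hX σ₁ σ₂ h1 h2 h,
    fun τ hτ => hens_part4 R X hX τ hτ⟩

end Hens

end Groth.Agent.Helper6.TwCEt
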