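import Mathlib
import Groth.Prelude.Def_TwC
import Groth.Prelude.Def_CAlg2
import Groth.Agent.Lib.Helper6.TwCEt.TE2
import Groth.Agent.Lib.Helper3.TwConstFin3
import Groth.Agent.Lib.Helper9.FE.EtDeg1

/-!
# Quasi-isotrivial twisted constant schemes over an irreducible geometrically unibranch base
(helper6)
-/

set_option autoImplicit false
set_option linter.style.haveILetI false
set_option linter.unusedSectionVars false
set_option linter.unusedVariables false
set_option maxHeartbeats 800000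
set_option synthInstance.maxHeartbeats 400000
universe u

namespace Groth.Agent.Helper6.TwCEt
open CategoryTheory CategoryTheory.Limits AlgebraicGeometry TopologicalSpace
open Groth.Agent.Helper3.TwConstFin Groth.Agent.Helper3.TwConstFin2
open Groth.Agent.Helper3.TwConstFin3
open Groth.Agent.Lib.Helper4.EqOpen

/-- a morphism surjective on stalks is surjective on residue fields -/
theorem resMap_surj_of_sos {Z X : Scheme.{u}} (j : Z ⟶ X)
    [SurjectiveOnStalks j] (z : Z) : Function.Surjective (j.residueFieldMap z).hom := by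
  intro t
  obtain ⟨s, rfl⟩ := IsLocalRing.residue_surjective (R := Z.presheaf.stalk z) t
  obtain ⟨r, rfl⟩ := j.stalkMap_surjective z s
  refine ⟨IsLocalRing.residue _ r, ?_⟩
  have h1 := congr($(Scheme.residue_residueFieldMap j z).hom r)
  simp only [CommRingCat.hom_comp, RingHom.coe_comp, Function.comp_apply] at h1
  exact h1

theorem resMap_surj_congr {P V : Scheme.{u}} {m m' : P ⟶ V} (h : m = m') {e : P}
    (hs : Function.Surjective (m.residueFieldMap e).hom) :
    Function.Surjective (m'.residueFieldMap e).hom := by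
  subst h
  exact hs

section Unibranch

variable {S : Scheme.{u}} [IrreducibleSpace S]
  (hS : ∀ s : S, CAlg2.IsGeomUnibranch (S.presheaf.stalk s))

theorem eq_generic_of_specializes {t : S} (h : t ⤳ genericPoint S) : t = genericPoint S :=
  (h.antisymm (genericPoint_specializes t)).eq

variable {Y : Scheme.{u}} (g : Y ⟶ S) [Etale g]

include hS g in
theorem encard_le_one (y : Y) : (minimalPrimes (Y.presheaf.stalk y)).encard ≤ 1 :=
  Groth.Agent.Lib.Helper4.UniComp2.encard_minimalPrimes_stalk_le_one_of_smooth g y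
    (by rw [Scheme.Hom.smoothLocus_eq_top]; trivial) (hS _)

theorem isMaxPt_of_generic {y : Y} (hy : g y = genericPoint S) : IsMaxPt y := by
  haveI : LocallyQuasiFinite g := lqf_of_etale g
  intro y' hy'
  have h1 : g y' ⤳ g y := hy'.map g.continuous
  rw [hy] at h1
  have h2 := eq_generic_of_specializes h1
  exact eq_of_specializes_of_fiber g hy' (h2.trans hy.symm)

theorem exists_generic_gen (y : Y) : ∃ ξ : Y, ξ ⤳ y ∧ g ξ = genericPoint S := by
  have hgen := Flat.generalizingMap g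
  obtain ⟨ξ, h1, h2⟩ := hgen (show genericPoint S ⤳ g y from genericPoint_specializes (g y))
  exact ⟨ξ, h1, h2⟩

include hS in
theorem generic_unique (y : Y) {ξ₁ ξ₂ : Y} (h₁ : ξ₁ ⤳ y) (m₁ : g ξ₁ = genericPoint S)
    (h₂ : ξ₂ ⤳ y) (m₂ : g ξ₂ = genericPoint S) : ξ₁ = ξ₂ :=
  maxPt_unique y (encard_le_one hS g y) h₁ (isMaxPt_of_generic g m₁) h₂ (isMaxPt_of_generic g m₂)

theorem finite_generic_of_affine {W : Y.Opens} (hW : IsAffineOpen W) {V : S.Opens}
    (hV : IsAffineOpen V) (hWV : W ≤ g ⁻¹ᵁ V) :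
    {ζ : Y | ζ ∈ W ∧ g ζ = genericPoint S}.Finite := by
  by_cases hne : ∃ ζ : Y, ζ ∈ W ∧ g ζ = genericPoint S
  swap
  · exact Set.Finite.subset Set.finite_empty (fun ζ hζ => (hne ⟨ζ, hζ⟩).elim)
  obtain ⟨ζ₀, hζ₀W, hζ₀⟩ := hne
  have hηV : genericPoint S ∈ V := by
    rw [← hζ₀]
    exact hWV hζ₀W
  haveI : IsAffine W.toScheme := hW
  haveI : IsAffine V.toScheme := hV
  have hh' : g.resLE V W hWV ≫ V.ι = W.ι ≫ g := Scheme.Hom.resLE_comp_ι g hWV
  haveI : LocallyQuasiFinite (W.ι ≫ g) := lqf_of_etale _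
  haveI : LocallyQuasiFinite (g.resLE V W hWV ≫ V.ι) := by rw [hh']; infer_instance
  haveI : LocallyQuasiFinite (g.resLE V W hWV) := LocallyQuasiFinite.of_comp _ V.ι
  have hfin := (g.resLE V W hWV).finite_preimage_singleton ⟨genericPoint S, hηV⟩
  refine (hfin.image W.ι).subset ?_
  rintro ζ ⟨hζW, hζ⟩
  refine ⟨⟨ζ, hζW⟩, ?_, rfl⟩
  show (g.resLE V W hWV) ⟨ζ, hζW⟩ = ⟨genericPoint S, hηV⟩
  apply V.ι.isOpenEmbedding.injective
  rw [← Scheme.Hom.comp_apply, hh', Scheme.Hom.comp_apply]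
  exact hζ

include hS in
theorem isOpen_closure_generic (ξ : Y) (hξ : g ξ = genericPoint S) :
    IsOpen (closure ({ξ} : Set Y)) := by
  rw [isOpen_iff_forall_mem_open]
  intro y hy
  have hξy : ξ ⤳ y := specializes_iff_mem_closure.2 hy
  obtain ⟨V, hV, hgyV, -⟩ := exists_isAffineOpen_mem_and_subset (x := g y) (U := ⊤) trivial
  obtain ⟨W, hW, hyW, hWV⟩ := exists_isAffineOpen_mem_and_subset (x := y) (U := g ⁻¹ᵁ V) hgyV
  have hG : {ζ : Y | ζ ∈ W ∧ g ζ = genericPoint S}.Finite :=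
    finite_generic_of_affine g hW hV (fun x hx => hWV hx)
  let G' : Set Y := {ζ | (ζ ∈ W ∧ g ζ = genericPoint S) ∧ ¬ ζ ⤳ y}
  have hG' : G'.Finite := hG.subset (fun ζ hζ => hζ.1)
  let B : Set Y := ⋃ ζ ∈ G', closure ({ζ} : Set Y)
  have hB : IsClosed B := hG'.isClosed_biUnion (fun _ _ => isClosed_closure)
  refine ⟨(W : Set Y) \ B, ?_, W.isOpen.sdiff hB, ⟨hyW, ?_⟩⟩
  · rintro w ⟨hwW, hwB⟩
    obtain ⟨ζ, hζw, hζ⟩ := exists_generic_gen g w
    have hζW : ζ ∈ (W : Set Y) := hζw.mem_open W.isOpen hwW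
    have hζy : ζ ⤳ y := by
      by_contra hcon
      apply hwB
      rw [Set.mem_iUnion₂]
      exact ⟨ζ, ⟨⟨hζW, hζ⟩, hcon⟩, specializes_iff_mem_closure.1 hζw⟩
    have hεq : ζ = ξ := generic_unique hS g y hζy hζ hξy hξ
    rw [← hεq]
    exact specializes_iff_mem_closure.1 hζw
  · rw [Set.mem_iUnion₂]
    rintro ⟨ζ, ⟨_, hζy⟩, hy'⟩
    exact hζy (specializes_iff_mem_closure.2 hy')

end Unibranch

section Main

variable {S : Scheme.{u}} [IrreducibleSpace S]
  (hS : ∀ s : S, CAlg2.IsGeomUnibranch (S.presheaf.stalk s))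
  (X : Over S) (hX : TwC.IsTwConst TwC.Topology.etale X)

include hS hX in
theorem uni_part1 (x : X.left) :
    ∃! l : X.left, X.hom.base l = genericPoint S ∧ x ∈ closure ({l} : Set X.left) := by
  haveI : Etale X.hom := etale_of_twConst X hX
  obtain ⟨l, hlx, hl⟩ := exists_generic_gen X.hom x
  refine ⟨l, ⟨hl, specializes_iff_mem_closure.1 hlx⟩, ?_⟩
  rintro l' ⟨hl', hx'⟩
  exact generic_unique hS X.hom x (specializes_iff_mem_closure.2 hx') hl' hlx hl

include hS hX in
theorem isFinite_closure (l : X.left) (hl : X.hom l = genericPoint S) (U : X.left.Opens)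
    (hU : (U : Set X.left) = closure ({l} : Set X.left)) : IsFinite (U.ι ≫ X.hom) := by
  have hX' : ∀ s : S, ∃ (S' : Scheme.{u}) (f : S' ⟶ S), Etale f ∧ s ∈ Set.range f ∧
      ∃ I : Type u, Nonempty (Red.bc f X ≅ TwC.const S' I) := hX
  haveI hét : Etale X.hom := etale_of_twConst X hX
  haveI : LocallyQuasiFinite X.hom := lqf_of_etale _
  haveI : LocallyQuasiFinite (U.ι ≫ X.hom) := lqf_of_etale _
  haveI : IsClosedImmersion U.ι :=
    IsClosedImmersion.of_isPreimmersion _ (by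
      rw [Scheme.Opens.range_ι, hU]
      exact isClosed_closure)
  haveI := Groth.Agent.S0084.result.{u}
  apply prop_of_fppf_local @IsFinite
  intro s
  obtain ⟨S', f, hfet, ⟨s', hs'⟩, I, ⟨e⟩⟩ := hX' s
  haveI := hfet
  obtain ⟨μ, hμs', hμ⟩ := exists_generic_gen f s'
  have hNopen := isOpen_closure_generic hS f μ hμ
  let N : S'.Opens := ⟨closure ({μ} : Set S'), hNopen⟩
  obtain ⟨eN⟩ := const_bc' X f N.ι I e
  haveI : PreconnectedSpace N.toScheme :=
    Subtype.preconnectedSpace (isIrreducible_singleton : IsIrreducible ({μ} : Set S')).closure.isConnected.isPreconnected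
  have hs'N : s' ∈ N := specializes_iff_mem_closure.1 hμs'
  refine ⟨N.toScheme, N.ι ≫ f, inferInstance, inferInstance, ⟨⟨s', hs'N⟩, ?_⟩, ?_⟩
  · rw [Scheme.Hom.comp_apply]
    exact hs'
  · obtain ⟨c, hc, hccl, hcop, -⟩ := exists_sigma_map X U.ι (N.ι ≫ f) I eN
    haveI : IsClosedImmersion c := hccl inferInstance
    haveI : IsOpenImmersion c := hcop inferInstance
    have hμN : μ ∈ N := subset_closure rfl
    have hfn : (N.ι ≫ f) ⟨μ, hμN⟩ = genericPoint S := by
      rw [Scheme.Hom.comp_apply]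
      exact hμ
    have hn : ((U.ι ≫ X.hom) ⁻¹' {(N.ι ≫ f) ⟨μ, hμN⟩}).Finite := by
      rw [hfn]
      have hlU : l ∈ U := by
        show l ∈ (U : Set X.left)
        rw [hU]
        exact subset_closure rfl
      refine (Set.finite_singleton (⟨l, hlU⟩ : U)).subset ?_
      intro w hw
      have hw0 : (w.1 : X.left) ∈ closure ({l} : Set X.left) := by
        rw [← hU]
        exact w.2
      have hw1 : l ⤳ w.1 := specializes_iff_mem_closure.2 hw0
      have hw2 : X.hom w.1 = genericPoint S := hw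
      have h3 := eq_of_specializes_of_fiber X.hom hw1 (hl.trans hw2.symm)
      exact Subtype.ext h3.symm
    have hfib := finite_fiber_bc (U.ι ≫ X.hom) (N.ι ≫ f) ⟨μ, hμN⟩ hn
    rw [← hc] at hfib ⊢
    exact isFinite_sigma_of_connected I c ⟨μ, hμN⟩ hfib

include hS hX in
theorem uni_part2 (l : X.left) (hl : X.hom.base l = genericPoint S) :
    ∃ U : X.left.Opens, (U : Set X.left) = closure ({l} : Set X.left) ∧
      IsClosed (U : Set X.left) ∧
      IsFinite (U.ι ≫ X.hom) ∧ Etale (U.ι ≫ X.hom) ∧ Surjective (U.ι ≫ X.hom) := by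
  haveI hét : Etale X.hom := etale_of_twConst X hX
  have hl' : X.hom l = genericPoint S := hl
  have hopen := isOpen_closure_generic hS X.hom l hl'
  refine ⟨⟨closure ({l} : Set X.left), hopen⟩, rfl, isClosed_closure, ?_, inferInstance, ?_⟩
  · exact isFinite_closure hS X hX l hl' _ rfl
  · constructor
    intro s
    have hspec := specializing_of_twConst X hX
    obtain ⟨x, hlx, hx⟩ := hspec (show X.hom l ⤳ s by
      rw [hl']
      exact genericPoint_specializes s)
    have hlx' : l ⤳ x := hlx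
    refine ⟨⟨x, specializes_iff_mem_closure.1 hlx'⟩, ?_⟩
    rw [Scheme.Hom.comp_apply]
    exact hx

include hX in
theorem uni_part3 (σ₁ σ₂ : S ⟶ X.left) (h1 : σ₁ ≫ X.hom = 𝟙 S) (h2 : σ₂ ≫ X.hom = 𝟙 S)
    (h : S.fromSpecResidueField (genericPoint S) ≫ σ₁ =
      S.fromSpecResidueField (genericPoint S) ≫ σ₂) : σ₁ = σ₂ := by
  obtain ⟨hsep, het, -⟩ := Groth.Agent.Helper6.TwCEt.main X hX
  haveI := hsep
  haveI := het
  haveI : IsOpenImmersion (pullback.diagonal X.hom) := inferInstance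
  have hfg : σ₁ ≫ X.hom = σ₂ ≫ X.hom := h1.trans h2.symm
  have hη : genericPoint S ∈ eqOpen X.hom σ₁ σ₂ hfg := by
    have h3 := mem_eqOpen_of_comp_eq X.hom σ₁ σ₂ hfg
      (S.fromSpecResidueField (genericPoint S)) h default
    rwa [Scheme.fromSpecResidueField_apply] at h3
  have hcl : IsClosed ((eqOpen X.hom σ₁ σ₂ hfg : S.Opens) : Set S) :=
    ((pullback.diagonal X.hom).isClosedEmbedding.isClosed_range).preimage
      (pullback.lift σ₁ σ₂ hfg).continuous
  have hdense : Dense ((eqOpen X.hom σ₁ σ₂ hfg : S.Opens) : Set S) :=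
    (eqOpen X.hom σ₁ σ₂ hfg).isOpen.dense ⟨_, hη⟩
  have hE : ((eqOpen X.hom σ₁ σ₂ hfg : S.Opens) : Set S) = Set.univ := by
    rw [← hcl.closure_eq, hdense.closure_eq]
  have htop : (⊤ : S.Opens) ≤ eqOpen X.hom σ₁ σ₂ hfg := by
    intro y _
    have : y ∈ ((eqOpen X.hom σ₁ σ₂ hfg : S.Opens) : Set S) := by
      rw [hE]
      trivial
    exact this
  have h4 := le_eqOpen_ι X.hom σ₁ σ₂ hfg ⊤ htop
  haveI : IsIso (⊤ : S.Opens).ι := inferInstanceAs (IsIso S.topIso.hom)
  exact (cancel_epi _).mp h4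

include hS hX in
theorem uni_part4 (τ : Spec (S.residueField (genericPoint S)) ⟶ X.left)
    (hτ : τ ≫ X.hom = S.fromSpecResidueField (genericPoint S)) :
    ∃ σ : S ⟶ X.left, σ ≫ X.hom = 𝟙 S ∧ S.fromSpecResidueField (genericPoint S) ≫ σ = τ := by
  haveI hét : Etale X.hom := etale_of_twConst X hX
  haveI : LocallyQuasiFinite X.hom := lqf_of_etale _
  obtain ⟨l, hldef⟩ : ∃ l : X.left, l = τ default := ⟨_, rfl⟩
  have hl : X.hom l = genericPoint S := by
    rw [hldef, ← Scheme.Hom.comp_apply, hτ, Scheme.fromSpecResidueField_apply]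
  obtain ⟨U, hU, hUcl, hfin, het, hsurj⟩ := uni_part2 hS X hX l hl
  haveI := hfin
  haveI := het
  have hrange : Set.range τ ⊆ Set.range U.ι := by
    rw [Scheme.Opens.range_ι, hU]
    rintro _ ⟨a, rfl⟩
    have ha : a = default := Subsingleton.elim _ _
    rw [ha, ← hldef]
    exact subset_closure rfl
  have hτ' : IsOpenImmersion.lift U.ι τ hrange ≫ U.ι = τ := IsOpenImmersion.lift_fac _ _ _
  obtain ⟨τ', hτ'def⟩ : ∃ τ' : Spec (S.residueField (genericPoint S)) ⟶ U.toScheme,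
      τ' = IsOpenImmersion.lift U.ι τ hrange := ⟨_, rfl⟩
  rw [← hτ'def] at hτ'
  have hτ'φ : τ' ≫ (U.ι ≫ X.hom) = S.fromSpecResidueField (genericPoint S) := by
    rw [← Category.assoc, hτ', hτ]
  have hc0 : U.ι (τ' default) = l := by
    rw [← Scheme.Hom.comp_apply, hτ', hldef]
  have hc : ∀ c' : U.toScheme, (U.ι ≫ X.hom) c' = (U.ι ≫ X.hom) (τ' default) → c' = τ' default := by
    intro c' hc'
    rw [Scheme.Hom.comp_apply, Scheme.Hom.comp_apply, hc0, hl] at hc'
    have hw0 : U.ι c' ∈ closure ({l} : Set X.left) := by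
      rw [← hU]
      exact c'.2
    have hw1 : l ⤳ U.ι c' := specializes_iff_mem_closure.2 hw0
    have h3 := eq_of_specializes_of_fiber X.hom hw1 (hl.trans hc'.symm)
    apply U.ι.isOpenEmbedding.injective
    rw [hc0]
    exact h3.symm
  have hs : Function.Surjective ((U.ι ≫ X.hom).residueFieldMap (τ' default)) := by
    have hA : Function.Surjective
        ((S.fromSpecResidueField (genericPoint S)).residueFieldMap default).hom :=
      resMap_surj_of_sos _ _
    have hB : Function.Surjective ((τ' ≫ (U.ι ≫ X.hom)).residueFieldMap default).hom :=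
      resMap_surj_congr hτ'φ.symm hA
    rw [Scheme.residueFieldMap_comp] at hB
    have hinj : Function.Injective (τ'.residueFieldMap default).hom :=
      (τ'.residueFieldMap default).hom.injective
    intro b
    obtain ⟨a, ha⟩ := hB ((τ'.residueFieldMap default).hom b)
    refine ⟨a, ?_⟩
    apply hinj
    exact ha
  obtain ⟨D, hDcl, hcD, hDoi, hDrange⟩ :=
    H9FE.EtDeg1.exists_clopen_section (U.ι ≫ X.hom) (τ' default) hc hs
  haveI := hDoi
  have hrange2 : Set.range (D.ι ≫ U.ι ≫ X.hom) = Set.univ :=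
    IsClopen.eq_univ ⟨hDrange, (D.ι ≫ U.ι ≫ X.hom).isOpenEmbedding.isOpen_range⟩
      ⟨_, ⟨⟨τ' default, hcD⟩, rfl⟩⟩
  haveI : IsIso (D.ι ≫ U.ι ≫ X.hom) :=
    (isIso_iff_isOpenImmersion_and_surjective _).mpr ⟨hDoi, ⟨Set.range_eq_univ.mp hrange2⟩⟩
  have hrange3 : Set.range τ' ⊆ Set.range D.ι := by
    rw [Scheme.Opens.range_ι]
    rintro _ ⟨a, rfl⟩
    have ha : a = default := Subsingleton.elim _ _
    rw [ha]
    exact hcD
  have hτ'' : IsOpenImmersion.lift D.ι τ' hrange3 ≫ D.ι = τ' := IsOpenImmersion.lift_fac _ _ _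
  have h5 : IsOpenImmersion.lift D.ι τ' hrange3 ≫ (D.ι ≫ U.ι ≫ X.hom) =
      S.fromSpecResidueField (genericPoint S) := by
    rw [← Category.assoc, hτ'', hτ'φ]
  have h6 : IsOpenImmersion.lift D.ι τ' hrange3 =
      S.fromSpecResidueField (genericPoint S) ≫ inv (D.ι ≫ U.ι ≫ X.hom) := by
    rw [← h5, Category.assoc, IsIso.hom_inv_id, Category.comp_id]
  refine ⟨inv (D.ι ≫ U.ι ≫ X.hom) ≫ D.ι ≫ U.ι, ?_, ?_⟩
  · rw [Category.assoc, Category.assoc, IsIso.inv_hom_id]
  · rw [← Category.assoc, ← h6, ← Category.assoc, hτ'', hτ']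

include hS hX in
theorem uni_main :
    (∀ x : X.left, ∃! l : X.left, X.hom.base l = genericPoint S ∧
      x ∈ closure ({l} : Set X.left)) ∧
    (∀ l : X.left, X.hom.base l = genericPoint S →
      ∃ U : X.left.Opens, (U : Set X.left) = closure ({l} : Set X.left) ∧
        IsClosed (U : Set X.left) ∧
        IsFinite (U.ι ≫ X.hom) ∧ Etale (U.ι ≫ X.hom) ∧ Surjective (U.ι ≫ X.hom)) ∧
    (∀ σ₁ σ₂ : S ⟶ X.left, σ₁ ≫ X.hom = 𝟙 S → σ₂ ≫ X.hom = 𝟙 S →
      S.fromSpecResidueField (genericPoint S) ≫ σ₁ =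
        S.fromSpecResidueField (genericPoint S) ≫ σ₂ → σ₁ = σ₂) ∧
    (∀ τ : Spec (S.residueField (genericPoint S)) ⟶ X.left,
      τ ≫ X.hom = S.fromSpecResidueField (genericPoint S) →
      ∃ σ : S ⟶ X.left, σ ≫ X.hom = 𝟙 S ∧ S.fromSpecResidueField (genericPoint S) ≫ σ = τ) :=
  ⟨fun x => uni_part1 hS X hX x, fun l hl => uni_part2 hS X hX l hl,
    fun σ₁ σ₂ h1 h2 h => uni_part3 X hX σ₁ σ₂ h1 h2 h,
    fun τ hτ => uni_part4 hS X hX τ hτ⟩

end Main

end Groth.Agent.Helper6.TwCEt
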